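import Groth.Agent.H23.RatProductK
import Groth.Agent.H23.RatExt
import Mathlib.AlgebraicGeometry.SpreadingOut
import Mathlib.AlgebraicGeometry.Sites.Fpqc

/-!
Points of abelian varieties with values in purely transcendental extensions.
-/

noncomputable section

set_option autoImplicit false
set_option linter.style.haveILetI false
set_option backward.isDefEq.respectTransparency false
set_option backward.isDefEq.respectTransparency.types false

set_option maxHeartbeats 800000

universe u

open CategoryTheory CategoryTheory.Limits MonoidalCategory CartesianMonoidalCategory AlgebraicGeometry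

namespace Groth.Agent.AVRatPts

open Groth.Agent

variable {K : Type u} [Field K]

/-- a point with values in the fraction field of a polynomial ring is constant -/
theorem exists_eq {A : Over (Spec (CommRingCat.of K))} [GrpObj A] [IsProper A.hom] [GeometricallyIntegral A.hom]
    (n : Type u) [Finite n] (Q : Type u) [Field Q] [Algebra K Q] [Algebra (MvPolynomial n K) Q]
    [IsScalarTower K (MvPolynomial n K) Q] [IsFractionRing (MvPolynomial n K) Q]
    (y : Spec (CommRingCat.of Q) ⟶ A.left) (hy : y ≫ A.hom = Spec.map (CommRingCat.ofHom (algebraMap K Q))) :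
    ∃ a : 𝟙_ (Over (Spec (CommRingCat.of K))) ⟶ A,
      y = Spec.map (CommRingCat.ofHom (algebraMap K Q)) ≫ a.left := by
  let R := CommRingCat.of (MvPolynomial n K)
  let x : PrimeSpectrum R := ⟨⊥, Ideal.isPrime_bot⟩
  let S := (Spec.structureSheaf R).presheaf.stalk x
  haveI : IsLocalization.AtPrime S x.asIdeal := StructureSheaf.IsLocalization.to_stalk R x
  have hunit : ∀ r : x.asIdeal.primeCompl, IsUnit (algebraMap (MvPolynomial n K) Q r.1) := fun r =>
    isUnit_iff_ne_zero.2 fun h => r.2 (by
      show (r.1 : MvPolynomial n K) ∈ (⊥ : Ideal (MvPolynomial n K))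
      exact (Ideal.mem_bot).2 ((IsFractionRing.injective (MvPolynomial n K) Q) (by rw [h, map_zero])))
  let ψ : S →+* Q := IsLocalization.lift hunit
  have hunit' : ∀ r : nonZeroDivisors (MvPolynomial n K), IsUnit (algebraMap R S r.1) := fun r =>
    IsLocalization.map_units S (⟨r.1, fun h => nonZeroDivisors.coe_ne_zero r ((Ideal.mem_bot).1 h)⟩ : x.asIdeal.primeCompl)
  let ψ' : Q →+* S := IsLocalization.lift (S := Q) hunit'
  have hψ : ψ.comp ψ' = RingHom.id Q := IsLocalization.ringHom_ext (nonZeroDivisors (MvPolynomial n K)) 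
    (RingHom.ext fun r => (congrArg ψ (IsLocalization.lift_eq hunit' r)).trans (IsLocalization.lift_eq hunit r))
  let sX : Spec R ⟶ Spec (CommRingCat.of K) := Spec.map (CommRingCat.ofHom (algebraMap K (MvPolynomial n K)))
  have hKS : ψ'.comp (algebraMap K Q) = (algebraMap R S).comp (algebraMap K (MvPolynomial n K)) := by
    ext c
    show ψ' (algebraMap K Q c) = algebraMap R S (algebraMap K (MvPolynomial n K) c)
    rw [IsScalarTower.algebraMap_apply K (MvPolynomial n K) Q]
    exact IsLocalization.lift_eq hunit' _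
  let φ : Spec ((Spec R).presheaf.stalk x) ⟶ A.left := Spec.map (CommRingCat.ofHom ψ') ≫ y
  have hφ : φ ≫ A.hom = (Spec R).fromSpecStalk x ≫ sX := by
    show (Spec.map (CommRingCat.ofHom ψ') ≫ y) ≫ A.hom = _
    rw [Category.assoc, hy, ← Spec.map_comp, Spec.fromSpecStalk_eq', ← Spec.map_comp]
    exact congrArg Spec.map (CommRingCat.hom_ext hKS)
  haveI : IsIntegral (Spec R) := inferInstance
  obtain ⟨U, hxU, f, hf, hfK⟩ := spread_out_of_isGermInjective' sX A.hom φ hφ
  let X := H23.RatProductK.affine K n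
  let e : X.left ≅ Spec R := AffineSpace.SpecIso n (CommRingCat.of K)
  have he : e.hom ≫ sX = X.hom := by
    rw [← Iso.eq_inv_comp]
    exact (AffineSpace.SpecIso_inv_over (CommRingCat.of K)).symm
  haveI := H23.RatProductK.smooth_affine (K := K) n
  haveI : IsSeparated X.hom := inferInstanceAs (IsSeparated (𝔸(n; Spec (CommRingCat.of K)) ↘ _))
  haveI : GeometricallyIntegral X.hom :=
    inferInstanceAs (GeometricallyIntegral (𝔸(n; Spec (CommRingCat.of K)) ↘ _))
  obtain ⟨g, hg⟩ := H23.RatExt.exists_extension (X := X) (G := A) (e.hom ⁻¹ᵁ U)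
    ⟨e.inv x, by
      show e.hom (e.inv x) ∈ U
      rw [← Scheme.Hom.comp_apply, Iso.inv_hom_id]
      exact hxU⟩
    (e.hom ∣_ U ≫ f) (by
      rw [Category.assoc, hfK, ← Category.assoc, morphismRestrict_ι, Category.assoc, he])
  obtain ⟨a, rfl⟩ := H23.RatProductK.affine_const n g
  refine ⟨a, ?_⟩
  have hf' : f = U.ι ≫ sX ≫ a.left := by
    haveI : IsIso (e.hom ∣_ U) := inferInstance
    rw [← cancel_epi (e.hom ∣_ U), ← hg, Over.comp_left, morphismRestrict_ι_assoc]
    congr 1
    rw [← Category.assoc, he]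
    rfl
  have h1 : y = Spec.map (CommRingCat.ofHom ψ) ≫ φ := by
    show y = Spec.map (CommRingCat.ofHom ψ) ≫ Spec.map (CommRingCat.ofHom ψ') ≫ y
    rw [← Spec.map_comp_assoc, ← CommRingCat.ofHom_comp, hψ, CommRingCat.ofHom_id, Spec.map_id, Category.id_comp]
  rw [h1, hf, hf', Scheme.Opens.fromSpecStalkOfMem_ι_assoc, Spec.fromSpecStalk_eq', ← Spec.map_comp_assoc,
    ← Spec.map_comp_assoc]
  congr 2
  ext c
  show ψ (algebraMap R S (algebraMap K (MvPolynomial n K) c)) = algebraMap K Q c
  rw [IsScalarTower.algebraMap_apply K (MvPolynomial n K) Q]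
  exact IsLocalization.lift_eq hunit _

/-- the same, variables indexed by `Fin n` -/
theorem exists_eq' {A : Over (Spec (CommRingCat.of K))} [GrpObj A] [IsProper A.hom] [GeometricallyIntegral A.hom]
    (n : ℕ) (Q : Type u) [Field Q] [Algebra K Q] [Algebra (MvPolynomial (Fin n) K) Q]
    [IsScalarTower K (MvPolynomial (Fin n) K) Q] [IsFractionRing (MvPolynomial (Fin n) K) Q]
    (y : Spec (CommRingCat.of Q) ⟶ A.left) (hy : y ≫ A.hom = Spec.map (CommRingCat.ofHom (algebraMap K Q))) :
    ∃ a : 𝟙_ (Over (Spec (CommRingCat.of K))) ⟶ A,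
      y = Spec.map (CommRingCat.ofHom (algebraMap K Q)) ≫ a.left := by
  let e : MvPolynomial (Fin n) K ≃+* MvPolynomial (ULift.{u} (Fin n)) K :=
    (MvPolynomial.renameEquiv K Equiv.ulift.symm).toRingEquiv
  letI : Algebra (MvPolynomial (ULift.{u} (Fin n)) K) Q :=
    ((algebraMap (MvPolynomial (Fin n) K) Q).comp e.symm.toRingHom).toAlgebra
  haveI : IsScalarTower K (MvPolynomial (ULift.{u} (Fin n)) K) Q := IsScalarTower.of_algebraMap_eq fun c => by
    show algebraMap K Q c = algebraMap (MvPolynomial (Fin n) K) Q (e.symm (MvPolynomial.C c))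
    rw [IsScalarTower.algebraMap_apply K (MvPolynomial (Fin n) K) Q]
    simp [e]
  haveI : IsFractionRing (MvPolynomial (ULift.{u} (Fin n)) K) Q := by
    have h := IsLocalization.isLocalization_of_base_ringEquiv (nonZeroDivisors (MvPolynomial (Fin n) K)) Q e
    rwa [MulEquivClass.map_nonZeroDivisors e] at h
  exact exists_eq (A := A) (ULift.{u} (Fin n)) Q y hy

/-- points over the function field of affine space -/
theorem bijective {A : Over (Spec (CommRingCat.of K))} [GrpObj A] [IsProper A.hom] [GeometricallyIntegral A.hom]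
    (n : ℕ) :
    Function.Bijective (fun x : (Over.mk (𝟙 (Spec (CommRingCat.of K))) ⟶ A) =>
      (Over.homMk (Spec.map (CommRingCat.ofHom (algebraMap K (FractionRing (MvPolynomial (Fin n) K)))))
          (Category.comp_id _) :
        Over.mk (Spec.map (CommRingCat.ofHom (algebraMap K (FractionRing (MvPolynomial (Fin n) K))))) ⟶
          Over.mk (𝟙 (Spec (CommRingCat.of K)))) ≫ x) := by
  let Q := FractionRing (MvPolynomial (Fin n) K)
  refine ⟨fun a b h => ?_, fun y => ?_⟩
  · haveI : Surjective (Spec.map (CommRingCat.ofHom (algebraMap K Q))) := ⟨fun p => ⟨⟨⊥, Ideal.isPrime_bot⟩,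
      @Subsingleton.elim (PrimeSpectrum K) _ _ _⟩⟩
    haveI : Flat (Spec.map (CommRingCat.ofHom (algebraMap K Q))) :=
      (HasRingHomProperty.Spec_iff (P := @Flat)).2 (RingHom.flat_algebraMap_iff.2 inferInstance)
    have hl := congrArg CommaMorphism.left h
    exact Over.OverMorphism.ext ((cancel_epi (Spec.map (CommRingCat.ofHom (algebraMap K Q)))).1 hl)
  · obtain ⟨a, ha⟩ := exists_eq' (A := A) n Q y.left (Over.w y)
    exact ⟨a, Over.OverMorphism.ext ha.symm⟩

end Groth.Agent.AVRatPts
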